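import Groth.Agent.L27.EtZar.Dense
import Groth.Agent.L27.EtSite.Common
import Groth.Agent.L27.MV.SES
import Groth.Agent.L27.ExtZero.ShriekExact
import Mathlib.CategoryTheory.Sites.LocallyBijective
import Mathlib.Order.Zorn

/-! # Sheaves with surjective restrictions between opens -/

universe u

open CategoryTheory CategoryTheory.Limits AlgebraicGeometry Opposite TopologicalSpace

set_option backward.isDefEq.respectTransparency.types false
set_option linter.style.haveILetI false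
set_option linter.unusedSectionVars false

namespace Groth.L27.EtFlasque

variable {X : Scheme.{u}}

/-- Restriction between opens. -/
noncomputable def res (F : EtCoh.Ab X) {V W : X.Opens} (h : V ≤ W) :
    (F.obj.obj (op (MV.oE W))) →+ (F.obj.obj (op (MV.oE V))) :=
  (F.obj.map (MV.oHom h).op).hom

theorem res_res (F : EtCoh.Ab X) {U V W : X.Opens} (h : U ≤ V) (h' : V ≤ W) (s : F.obj.obj (op (MV.oE W))) :
    res F h (res F h' s) = res F (h.trans h') s := by
  show F.obj.map _ (F.obj.map _ s) = F.obj.map _ s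
  rw [← Functor.map_comp_apply, ← op_comp, MV.hom_oE_subsingleton (MV.oHom h ≫ MV.oHom h')]

theorem res_nat {F G : EtCoh.Ab X} (φ : F ⟶ G) {V W : X.Opens} (h : V ≤ W) (s : F.obj.obj (op (MV.oE W))) :
    φ.hom.app (op (MV.oE V)) (res F h s) = res G h (φ.hom.app (op (MV.oE W)) s) :=
  NatTrans.naturality_apply φ.hom _ s

theorem res_self (F : EtCoh.Ab X) {W : X.Opens} (h : W ≤ W) (s : F.obj.obj (op (MV.oE W))) : res F h s = s := by
  show F.obj.map _ s = s
  rw [MV.hom_oE_subsingleton (MV.oHom h) (𝟙 _), op_id, CategoryTheory.Functor.map_id, ConcreteCategory.id_apply]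

theorem exists_mem_oE {W : X.Opens} (x : (MV.oE W).left) : (W.ι x : X) ∈ W :=
  (Scheme.Opens.range_ι W).subset ⟨x, rfl⟩

/-- Sections over opens agree if they agree on a covering. -/
theorem ext_opens (F : EtCoh.Ab X) {ι : Type*} {W : X.Opens} (O : ι → X.Opens) (hO : ∀ i, O i ≤ W)
    (hc : ∀ x ∈ W, ∃ i, x ∈ O i) {s t : F.obj.obj (op (MV.oE W))}
    (h : ∀ i, res F (hO i) s = res F (hO i) t) : s = t := by
  refine EtSite.ext_of_locally F fun x => ?_
  obtain ⟨i, hi⟩ := hc (W.ι x) (exists_mem_oE x)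
  exact ⟨MV.oE (O i), MV.oHom (hO i), ⟨W.ι x, hi⟩, Subtype.ext (Scheme.homOfLE_apply (hO i) _), h i⟩

/-- Sections over opens glue. -/
theorem glue_opens (F : EtCoh.Ab X) {ι : Type*} {W : X.Opens} (O : ι → X.Opens) (hO : ∀ i, O i ≤ W)
    (hc : ∀ x ∈ W, ∃ i, x ∈ O i) (t : ∀ i, F.obj.obj (op (MV.oE (O i))))
    (h : ∀ i j, res F (inf_le_left : O i ⊓ O j ≤ O i) (t i) = res F (inf_le_right : O i ⊓ O j ≤ O j) (t j)) :
    ∃ s : F.obj.obj (op (MV.oE W)), ∀ i, res F (hO i) s = t i := by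
  let H := (sheafCompose X.smallEtaleTopology (forget AddCommGrpCat.{u + 1})).obj F
  let c : ∀ i, MV.oE (O i) ⟶ MV.oE W := fun i => MV.oHom (hO i)
  have hmem : Sieve.generate (Presieve.ofArrows (fun i => MV.oE (O i)) c) ∈ X.smallEtaleTopology (MV.oE W) :=
    (EtSite.mem_topology_iff _).2 fun x => by
      obtain ⟨i, hi⟩ := hc (W.ι x) (exists_mem_oE x)
      exact ⟨_, c i, ⟨W.ι x, hi⟩, ⟨_, 𝟙 _, c i, ⟨i⟩, Category.id_comp _⟩, Subtype.ext (Scheme.homOfLE_apply (hO i) _)⟩
  have hcompat : Presieve.Arrows.Compatible H.obj c t := by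
    intro i j Z gi gj _
    have hoi : IsOpenImmersion (Scheme.Opens.ι (O i ⊓ O j)) := inferInstance
    have hr : Set.range Z.hom ⊆ Set.range (O i ⊓ O j).ι := by
      rintro _ ⟨z, rfl⟩
      rw [Scheme.Opens.range_ι]
      refine ⟨?_, ?_⟩
      · have : (O i).ι (gi.left z) = Z.hom z := congr($(MorphismProperty.Over.w gi) z)
        exact this ▸ exists_mem_oE (gi.left z)
      · have : (O j).ι (gj.left z) = Z.hom z := congr($(MorphismProperty.Over.w gj) z)
        exact this ▸ exists_mem_oE (gj.left z)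
    let k : Z ⟶ MV.oE (O i ⊓ O j) := MorphismProperty.Over.homMk (@IsOpenImmersion.lift _ _ _ (Scheme.Opens.ι (O i ⊓ O j)) Z.hom hoi hr)
      (@IsOpenImmersion.lift_fac _ _ _ (Scheme.Opens.ι (O i ⊓ O j)) Z.hom hoi hr)
    show F.obj.map gi.op (t i) = F.obj.map gj.op (t j)
    rw [MV.hom_oE_subsingleton gi (k ≫ MV.oHom inf_le_left), MV.hom_oE_subsingleton gj (k ≫ MV.oHom inf_le_right),
      op_comp, op_comp, Functor.map_comp_apply, Functor.map_comp_apply]
    exact congrArg _ (h i j)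
  obtain ⟨s, hs, -⟩ := ((Presieve.isSheafFor_arrows_iff _ _).mp
    ((Presieve.isSheafFor_iff_generate _).mpr
      ((isSheaf_iff_isSheaf_of_type _ _).1 H.property _ hmem))) t hcompat
  exact ⟨s, hs⟩

/-- Restrictions between opens are surjective. -/
def Flasque (F : EtCoh.Ab X) : Prop := ∀ ⦃V W : X.Opens⦄ (h : V ≤ W), Function.Surjective (res F h)

theorem flasque_of_injective (I : EtCoh.Ab X) [Injective I] : Flasque I := by
  intro V W h y
  haveI : Mono (MV.oHom h) := ⟨fun a b _ => MV.hom_oE_subsingleton a b⟩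
  haveI := MV.mono_freeMap (MV.oHom h)
  obtain ⟨φ, rfl⟩ := (Colim.homEquiv (MV.oE V) I).surjective y
  refine ⟨Colim.homEquiv (MV.oE W) I (Injective.factorThru φ (MV.freeMap (MV.oHom h))), ?_⟩
  show I.obj.map (MV.oHom h).op _ = _
  rw [← MV.homEquiv_freeMap_comp, Injective.comp_factorThru]

variable (hS : ∀ x : X, EtCoh.IsStrictlyHenselianLocalRing (X.presheaf.stalk x))
include hS

/-- Zariski local lifts along epimorphisms. -/
theorem exists_local_lift {G Q : EtCoh.Ab X} (g : G ⟶ Q) [Epi g] {W : X.Opens}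
    (s : Q.obj.obj (op (MV.oE W))) {x : X} (hx : x ∈ W) :
    ∃ (O : X.Opens) (h : O ≤ W) (t : G.obj.obj (op (MV.oE O))),
      x ∈ O ∧ g.hom.app (op (MV.oE O)) t = res Q h s := by
  haveI : Sheaf.IsLocallySurjective g := (Sheaf.isLocallySurjective_iff_epi' (φ := g)).2 inferInstance
  obtain ⟨Z, a, z, ⟨y, hy⟩, hz⟩ := (EtSite.mem_topology_iff _).1
    (Presheaf.imageSieve_mem X.smallEtaleTopology g.hom s) ⟨x, hx⟩
  haveI : Etale Z.hom := Z.prop
  obtain ⟨V, hV, σ, hσ, hσz, -⟩ := HenselSections.exists_local_section Z.hom z (hS _)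
  have hzx : Z.hom z = x := by
    have := congr($((MorphismProperty.Over.w a).symm) z)
    rw [this]
    exact (Scheme.Hom.comp_apply _ _ _).trans (congrArg W.ι hz)
  have hOV : V ⊓ W ≤ V := inf_le_left
  let σ' : MV.oE (V ⊓ W) ⟶ Z := MorphismProperty.Over.homMk (X.homOfLE hOV ≫ σ)
    ((Category.assoc _ _ _).trans ((congrArg (X.homOfLE hOV ≫ ·) hσ).trans (X.homOfLE_ι hOV)))
  refine ⟨V ⊓ W, inf_le_right, G.obj.map σ'.op y, ⟨hzx ▸ hV, hx⟩, ?_⟩
  rw [NatTrans.naturality_apply g.hom σ'.op, hy, ← Functor.map_comp_apply, ← op_comp,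
    MV.hom_oE_subsingleton (σ' ≫ a) (MV.oHom inf_le_right)]
  rfl

/-- Sections lift along epimorphisms with flasque kernel. -/
theorem exists_lift {S : ShortComplex (EtCoh.Ab X)} (hSE : S.ShortExact) (hF : Flasque S.X₁) (W : X.Opens)
    (s : S.X₃.obj.obj (op (MV.oE W))) :
    ∃ t : S.X₂.obj.obj (op (MV.oE W)), S.g.hom.app (op (MV.oE W)) t = s := by
  haveI := hSE.epi_g
  let P := Σ' (V : X.Opens) (h : V ≤ W), {t : S.X₂.obj.obj (op (MV.oE V)) // S.g.hom.app (op (MV.oE V)) t = res S.X₃ h s}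
  let r : P → P → Prop := fun a b => ∃ h : a.1 ≤ b.1, res S.X₂ h b.2.2.1 = a.2.2.1
  have htrans : ∀ {a b c}, r a b → r b c → r a c := fun {a b c} ⟨h, e⟩ ⟨h', e'⟩ =>
    ⟨h.trans h', by rw [← res_res _ h h', e', e]⟩
  obtain ⟨⟨V, hVW, t, ht⟩, hmax⟩ := exists_maximal_of_chains_bounded (r := r) (fun C hC => by
    let O : C → X.Opens := fun a => a.1.1
    have hO : ∀ i : C, O i ≤ ⨆ j, O j := fun i => le_iSup O i
    obtain ⟨t, ht⟩ := glue_opens S.X₂ O hO (fun x hx => Opens.mem_iSup.1 hx) (fun a => a.1.2.2.1) (fun i j => by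
      by_cases e : i = j
      · subst e; rfl
      · rcases hC i.2 j.2 (fun h => e (Subtype.ext h)) with ⟨h, e'⟩ | ⟨h, e'⟩
        · rw [← e', res_res]
        · rw [← e', res_res])
    have hW : (⨆ j, O j) ≤ W := iSup_le fun a => a.1.2.1
    refine ⟨⟨⨆ j, O j, hW, t, ext_opens S.X₃ O hO (fun x hx => Opens.mem_iSup.1 hx) fun i => ?_⟩,
      fun a ha => ⟨hO ⟨a, ha⟩, ht ⟨a, ha⟩⟩⟩
    rw [← res_nat, ht i, i.1.2.2.2, res_res]) htrans
  have hWV : W ≤ V := by
    intro x hx
    obtain ⟨O, hOW, u, hxO, hu⟩ := exists_local_lift hS S.g s hx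
    have hd : S.g.hom.app (op (MV.oE (V ⊓ O))) (res S.X₂ inf_le_left t - res S.X₂ inf_le_right u) = 0 := by
      rw [map_sub, res_nat, res_nat, ht, hu, res_res, res_res, sub_self]
    obtain ⟨d, hd⟩ := Supp.exists_preimage hSE _ _ hd
    obtain ⟨d', rfl⟩ := hF (inf_le_right : V ⊓ O ≤ O) d
    rw [res_nat] at hd
    let u' := u + S.f.hom.app (op (MV.oE O)) d'
    let C : Bool → X.Opens := fun b => if b then V else O
    let T : ∀ b, S.X₂.obj.obj (op (MV.oE (C b))) := fun b => match b with | true => t | false => u'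
    have h01 : res S.X₂ (inf_le_left : V ⊓ O ≤ V) t = res S.X₂ (inf_le_right : V ⊓ O ≤ O) u' := by
      show _ = res S.X₂ _ (u + _)
      rw [map_add, hd]
      abel
    have hC : ∀ b, C b ≤ V ⊔ O := fun b => by cases b <;> simp [C]
    obtain ⟨w, hw⟩ := glue_opens S.X₂ C hC (fun y hy => by
        rcases hy with hy | hy
        · exact ⟨true, hy⟩
        · exact ⟨false, hy⟩) T (fun i j => by
      cases i <;> cases j
      · rfl
      · have e : (C false ⊓ C true) ≤ V ⊓ O := le_inf inf_le_right inf_le_left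
        show res S.X₂ _ u' = res S.X₂ _ t
        rw [← res_res S.X₂ e (inf_le_right : V ⊓ O ≤ O), ← h01, res_res]
      · show res S.X₂ _ t = res S.X₂ _ u'
        exact h01
      · rfl)
    have hgw : S.g.hom.app (op (MV.oE (V ⊔ O))) w = res S.X₃ (sup_le hVW hOW) s := by
      refine ext_opens S.X₃ C hC (fun y hy => by
        rcases hy with hy | hy
        · exact ⟨true, hy⟩
        · exact ⟨false, hy⟩) fun b => ?_
      rw [← res_nat, hw b, res_res]
      cases b
      · show S.g.hom.app (op (MV.oE O)) (u + _) = res S.X₃ hOW s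
        rw [map_add, hu, show S.g.hom.app (op (MV.oE O)) (S.f.hom.app (op (MV.oE O)) d') = 0 from
          congr($(S.zero).hom.app (op (MV.oE O)) d'), add_zero]
      · exact ht
    exact (hmax ⟨V ⊔ O, sup_le hVW hOW, w, hgw⟩ ⟨le_sup_left, hw true⟩).1 (Or.inr hxO)
  obtain rfl : V = W := le_antisymm hVW hWV
  exact ⟨t, ht.trans (res_self _ _ _)⟩

theorem flasque_X₃ {S : ShortComplex (EtCoh.Ab X)} (hSE : S.ShortExact) (hF : Flasque S.X₁)
    (hG : Flasque S.X₂) : Flasque S.X₃ := by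
  intro V W h y
  obtain ⟨t, rfl⟩ := exists_lift hS hSE hF V y
  obtain ⟨t', rfl⟩ := hG h t
  exact ⟨_, (res_nat S.g h t').symm⟩

end Groth.L27.EtFlasque
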