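import Groth.Agent.L27.EtZar.Dense
import Mathlib.CategoryTheory.Abelian.RightDerived
import Mathlib.CategoryTheory.Abelian.GrothendieckCategory.EnoughInjectives
import Mathlib.CategoryTheory.Sites.Limits

/-! # Etale and Zariski cohomology when all local rings are strictly henselian -/

universe u

open CategoryTheory CategoryTheory.Limits AlgebraicGeometry Opposite TopologicalSpace CategoryTheory.Abelian

set_option backward.isDefEq.respectTransparency.types false
set_option linter.style.haveILetI false
set_option linter.unusedSectionVars false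

namespace Groth.L27.EtZarDense

/-- Top of the site of opens is terminal. -/
noncomputable def zarTopTerminal (S : Scheme.{u}) : IsTerminal (⊤ : S.Opens) :=
  IsTerminal.ofUniqueHom (fun _ => homOfLE le_top) (fun _ _ => Subsingleton.elim _ _)

/-- The image of the top open is the top object. -/
noncomputable def topIso (S : Scheme.{u}) : (EtZar.zarToEt S).obj ⊤ ≅ EtCoh.top S :=
  MorphismProperty.Over.isoMk (Scheme.topIso S) (Category.comp_id _)

theorem isZero_rightDerived_of_exact {C : Type*} [Category C] [Abelian C] {D : Type*} [Category D] [Abelian D]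
    [EnoughInjectives C] (R : C ⥤ D) [R.Additive] [R.PreservesHomology] (F : C) (q : ℕ) (hq : 0 < q) :
    IsZero ((R.rightDerived q).obj F) := by
  let I := InjectiveResolution.of F
  refine IsZero.of_iso ?_ (I.isoRightDerivedObj R q)
  obtain ⟨q, rfl⟩ := Nat.exists_eq_succ_of_ne_zero hq.ne'
  rw [HomologicalComplex.homologyFunctor_obj, ← HomologicalComplex.exactAt_iff_isZero_homology]
  exact (I.cocomplex_exactAt_succ q).map R

theorem nonempty_addEquiv (S : Scheme.{u})
    (hS : ∀ s : S, EtCoh.IsStrictlyHenselianLocalRing (S.presheaf.stalk s)) [EtZar.ZarCont S]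
    (F : EtCoh.Ab S) (i : ℕ) : Nonempty (EtCoh.H S F i ≃+ EtZar.H ((EtZar.resZar S).obj F) i) := by
  haveI := isDenseSubsite S hS
  haveI : (EtZar.resZar S).IsEquivalence :=
    inferInstanceAs ((EtZar.zarToEt S).sheafPushforwardContinuous AddCommGrpCat.{u + 1}
      (Opens.grothendieckTopology S) S.smallEtaleTopology).IsEquivalence
  let L := EtZar.resZar S
  let R := L.inv
  let E := L.asEquivalence
  let adj : L ⊣ R := E.toAdjunction
  haveI : R.IsEquivalence := E.isEquivalence_inverse
  haveI : L.Additive := Functor.additive_of_preserves_binary_products L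
  haveI : R.Additive := Functor.additive_of_preserves_binary_products R
  haveI : PreservesFiniteLimits L := inferInstance
  haveI : PreservesFiniteColimits L := inferInstance
  haveI : PreservesFiniteLimits R := inferInstance
  haveI : R.PreservesHomology := inferInstance
  let gZ : EtZar.Ab S ⥤ AddCommGrpCat.{u + 1} :=
    (sheafSections (Opens.grothendieckTopology S) AddCommGrpCat.{u + 1}).obj (op ⊤)
  let gE := EtCore.gsec S
  let zAdj := constantSheafAdj (Opens.grothendieckTopology S) AddCommGrpCat.{u + 1} (zarTopTerminal S)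
  let e : R ⋙ gE ≅ gZ := Functor.isoWhiskerLeft R
      ((sheafSections S.smallEtaleTopology AddCommGrpCat.{u + 1}).mapIso (topIso S).op) ≪≫
      Functor.isoWhiskerRight E.counitIso gZ
  let cIso : constantSheaf S.smallEtaleTopology AddCommGrpCat.{u + 1} ⋙ L ≅
      constantSheaf (Opens.grothendieckTopology S) AddCommGrpCat.{u + 1} :=
    Adjunction.leftAdjointUniq (((EtCore.constAdj S).comp adj).ofNatIsoRight e) zAdj
  let Z := AddCommGrpCat.of (ULift.{u + 1} ℤ)
  let K := (constantSheaf S.smallEtaleTopology AddCommGrpCat.{u + 1}).obj Z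
  let c := cIso.app Z
  let η := E.unitIso.app F
  let G := L.obj F
  have hb := ExtAdj.bijective_phi.{u + 1, u + 1} adj (A := K) i G
    (fun q hq => isZero_rightDerived_of_exact R G q hq)
  let e1 : EtCoh.H S F i ≃+ Ext.{u + 1} K (R.obj G) i :=
    { toFun := fun x => x.comp (Ext.mk₀ η.hom) (add_zero i)
      invFun := fun x => x.comp (Ext.mk₀ η.inv) (add_zero i)
      left_inv := fun x => (Ext.comp_assoc_of_third_deg_zero _ _ _ _).trans
        ((congrArg (fun r => Ext.comp x r (add_zero i))
          ((Ext.mk₀_comp_mk₀ _ _).trans (congrArg Ext.mk₀ η.hom_inv_id))).trans (Ext.comp_mk₀_id x))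
      right_inv := fun x => (Ext.comp_assoc_of_third_deg_zero _ _ _ _).trans
        ((congrArg (fun r => Ext.comp x r (add_zero i))
          ((Ext.mk₀_comp_mk₀ _ _).trans (congrArg Ext.mk₀ η.inv_hom_id))).trans (Ext.comp_mk₀_id x))
      map_add' := fun x y => Ext.add_comp _ _ _ _ }
  let e2 : Ext.{u + 1} K (R.obj G) i ≃+ Ext.{u + 1} (L.obj K) G i :=
    AddEquiv.ofBijective
      (AddMonoidHom.mk' (ExtAdj.phi.{u + 1, u + 1} adj K G i) (fun x y => by
        rw [ExtAdj.phi, Ext.mapExactFunctor_add, Ext.add_comp]
        rfl)) hb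
  let e3 : Ext.{u + 1} (L.obj K) G i ≃+ EtZar.H G i :=
    { toFun := fun x => (Ext.mk₀ c.inv).comp x (zero_add i)
      invFun := fun x => (Ext.mk₀ c.hom).comp x (zero_add i)
      left_inv := fun x => by
        simp only [Ext.mk₀_comp_mk₀_assoc, Iso.hom_inv_id, Ext.mk₀_id_comp]
      right_inv := fun x => by
        simp only [Ext.mk₀_comp_mk₀_assoc, Iso.inv_hom_id, Ext.mk₀_id_comp]
      map_add' := fun x y => Ext.comp_add _ _ _ _ }
  exact ⟨(e1.trans e2).trans e3⟩

end Groth.L27.EtZarDense
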