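import Groth.Agent.L27.EtZar.LocalSection
import Groth.Agent.L27.EtSite.Points
import Groth.Agent.L27.Hom.ExtAdj
import Groth.Prelude.Def_EtZar
import Groth.Prelude.Def_EtCore
import Mathlib.CategoryTheory.Sites.DenseSubsite.SheafEquiv

/-! # Opens form a dense subsite when all local rings are strictly henselian -/

universe u

open CategoryTheory CategoryTheory.Limits AlgebraicGeometry Opposite TopologicalSpace CategoryTheory.Abelian

set_option backward.isDefEq.respectTransparency.types false
set_option linter.style.haveILetI false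
set_option linter.unusedSectionVars false

namespace Groth.L27.EtZarDense

variable (S : Scheme.{u})

theorem le_of_hom {U V : S.Opens} (f : (EtZar.zarToEt S).obj U ⟶ (EtZar.zarToEt S).obj V) : U ≤ V := by
  intro x hx
  have h := congr($(MorphismProperty.Over.w f) (⟨x, hx⟩ : U.toScheme))
  have h' : V.ι (f.left ⟨x, hx⟩) = x := (Scheme.Hom.comp_apply _ _ _).symm.trans h
  exact (Scheme.Opens.range_ι V).subset ⟨_, h'⟩

theorem hom_subsingleton {Z : S.Etale} {V : S.Opens} (a b : Z ⟶ (EtZar.zarToEt S).obj V) : a = b :=
  MorphismProperty.Over.Hom.ext ((cancel_mono V.ι).1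
    ((MorphismProperty.Over.w a).trans (MorphismProperty.Over.w b).symm))

instance : (EtZar.zarToEt S).Faithful where
  map_injective {_ _ _ _} _ := Subsingleton.elim _ _

instance : (EtZar.zarToEt S).Full where
  map_surjective f := ⟨homOfLE (le_of_hom S f), hom_subsingleton S _ _⟩

variable (hS : ∀ s : S, EtCoh.IsStrictlyHenselianLocalRing (S.presheaf.stalk s))
include hS

theorem isCoverDense : (EtZar.zarToEt S).IsCoverDense S.smallEtaleTopology := by
  refine ⟨fun U => (EtSite.mem_topology_iff _).2 fun u => ?_⟩
  haveI : Etale U.hom := U.prop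
  obtain ⟨V, hV, s, hs, hsu, -⟩ := HenselSections.exists_local_section U.hom u (hS _)
  exact ⟨(EtZar.zarToEt S).obj V, MorphismProperty.Over.homMk s hs, ⟨U.hom u, hV⟩,
    Presieve.in_coverByImage (EtZar.zarToEt S) _, hsu⟩

theorem isDenseSubsite :
    (EtZar.zarToEt S).IsDenseSubsite (Opens.grothendieckTopology S) S.smallEtaleTopology where
  isCoverDense' := isCoverDense S hS
  functorPushforward_mem_iff {U R} := by
    constructor
    · intro h x hx
      obtain ⟨Z, g, z, ⟨W, w, k, hw, hk⟩, hz⟩ := (EtSite.mem_topology_iff _).1 h ⟨x, hx⟩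
      refine ⟨W, w, hw, ?_⟩
      have h1 : g.left z = ((EtZar.zarToEt S).map w).left (k.left z) := by
        rw [hk]
        exact Scheme.Hom.comp_apply _ _ _
      have h2 : Scheme.Opens.ι W (k.left z) = x := by
        have h3 := congrArg Subtype.val (h1.symm.trans hz)
        exact (congr($(S.homOfLE_ι (leOfHom w)) (k.left z)).symm.trans (Scheme.Hom.comp_apply _ _ _)).trans h3
      exact (Scheme.Opens.range_ι W).subset ⟨_, h2⟩
    · intro h
      refine (EtSite.mem_topology_iff _).2 fun x => ?_
      obtain ⟨W, w, hw, hx⟩ := h x.1 x.2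
      exact ⟨(EtZar.zarToEt S).obj W, (EtZar.zarToEt S).map w, ⟨x.1, hx⟩,
        Sieve.image_mem_functorPushforward _ _ hw, Subtype.ext (Scheme.homOfLE_apply (leOfHom w) _)⟩

end Groth.L27.EtZarDense
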