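import Groth.Agent.L27.EtSite.StrictLocal
import Groth.Agent.L19.SpreadLfp
import Mathlib.AlgebraicGeometry.Morphisms.FlatMono
import Mathlib.AlgebraicGeometry.Morphisms.FormallyUnramified
import Mathlib.AlgebraicGeometry.Morphisms.Etale

/-! # Local sections of etale morphisms at points with strictly henselian local rings -/

universe u

open CategoryTheory CategoryTheory.Limits AlgebraicGeometry Opposite TopologicalSpace

set_option backward.isDefEq.respectTransparency.types false
set_option linter.style.haveILetI false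

namespace Groth.L27.HenselSections

variable {U X : Scheme.{u}} (g : U ⟶ X) [Etale g]

/-- An etale morphism has a section through any point over a strictly henselian local ring. -/
theorem exists_local_section (u : U) (hs : EtCoh.IsStrictlyHenselianLocalRing (X.presheaf.stalk (g u))) :
    ∃ (V : X.Opens) (hV : g u ∈ V) (s : V.toScheme ⟶ U),
      s ≫ g = V.ι ∧ s ⟨g u, hV⟩ = u ∧ IsOpenImmersion s := by
  obtain ⟨hh, hsc⟩ := hs
  haveI := hh
  haveI : IsSepClosed (X.residueField (g u)) := hsc
  letI := (g.residueFieldMap u).hom.toAlgebra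
  haveI : Algebra.IsSeparable (X.residueField (g u)) (U.residueField u) := inferInstance
  haveI : IsIso (g.residueFieldMap u) := (ConcreteCategory.isIso_iff_bijective _).2
    (IsSepClosed.algebraMap_bijective (X.residueField (g u)) (U.residueField u))
  let y₀ : Spec (X.residueField (g u)) ⟶ U :=
    inv (Spec.map (g.residueFieldMap u)) ≫ U.fromSpecResidueField u
  have hy₀ : y₀ ≫ g = X.fromSpecResidueField (g u) := by
    rw [Category.assoc, IsIso.inv_comp_eq, Scheme.Hom.SpecMap_residueFieldMap_fromSpecResidueField]
  let U' : (Spec (X.presheaf.stalk (g u))).Etale :=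
    (EtCoh.bc (X.fromSpecStalk (g u))).obj (Scheme.Etale.mk g)
  let y : (Scheme.pointSmallEtale (EtSite.closedPt (X.presheaf.stalk (g u)))).fiber.obj U' :=
    Over.homMk (pullback.lift y₀ (EtSite.closedPt (X.presheaf.stalk (g u))) (hy₀.trans rfl)) (pullback.lift_snd _ _ _)
  obtain ⟨σ, hσ⟩ := @EtSite.exists_section (X.presheaf.stalk (g u)) _ hh hsc U' y
  let φ : Spec (X.presheaf.stalk (g u)) ⟶ U := σ.left ≫ pullback.fst g (X.fromSpecStalk (g u))
  have hφ : φ ≫ g = X.fromSpecStalk (g u) ≫ 𝟙 X := by
    have h1 : σ.left ≫ pullback.snd g (X.fromSpecStalk (g u)) = 𝟙 _ := Over.w σ.hom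
    refine (Category.assoc _ _ _).trans ((congrArg (σ.left ≫ ·) pullback.condition).trans ?_)
    exact (Category.assoc _ _ _).symm.trans ((congrArg (· ≫ X.fromSpecStalk (g u)) h1).trans
      ((Category.id_comp _).trans (Category.comp_id _).symm))
  have hclosed : EtSite.closedPt (X.presheaf.stalk (g u)) ≫ φ = y₀ := by
    have h1 : EtSite.closedPt (X.presheaf.stalk (g u)) ≫ σ.left =
        pullback.lift y₀ (EtSite.closedPt (X.presheaf.stalk (g u))) (hy₀.trans rfl) := congrArg (fun z => z.left) hσ
    exact (Category.assoc _ _ _).symm.trans ((congrArg (· ≫ pullback.fst g _) h1).trans (pullback.lift_fst _ _ _))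
  obtain ⟨V, hV, s, hs1, hs2⟩ := Groth.L19.SpreadLfp.spread_out' (𝟙 X) g φ hφ
  refine ⟨V, hV, s, by simpa using hs2, ?_, ?_⟩
  · have : y₀ default = u := by
      simp only [y₀, Scheme.Hom.comp_apply]
      exact Scheme.fromSpecResidueField_apply _ _
    conv_rhs => rw [← this, ← hclosed, hs1]
    simp only [Scheme.Hom.comp_apply]
    refine congrArg s (Subtype.ext ?_)
    have := congr($(V.fromSpecStalkOfMem_ι (g u) hV) (EtSite.closedPt (X.presheaf.stalk (g u)) default))
    refine Eq.trans ?_ this.symm
    exact (Scheme.fromSpecResidueField_apply (g u) default).symm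
  · have hs3 : s ≫ g = V.ι := by simpa using hs2
    haveI : Mono (s ≫ g) := hs3 ▸ inferInstance
    haveI : Mono s := mono_of_mono s g
    haveI : Etale (s ≫ g) := hs3 ▸ inferInstance
    haveI : Etale s := Etale.of_comp s g
    exact IsOpenImmersion.of_flat_of_mono s

end Groth.L27.HenselSections
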