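import Groth.Agent.L27.EtZar.LocalSection
import Groth.Agent.L27.EtSite.Points
import Groth.Agent.L27.EtSite.Common
import Groth.Agent.S0495
import Mathlib.RingTheory.Spectrum.Prime.Topology
import Mathlib.AlgebraicGeometry.AffineScheme

/-! # Cohomology of zero-dimensional affine schemes with separably closed residue fields -/

universe u

open CategoryTheory CategoryTheory.Limits AlgebraicGeometry Opposite TopologicalSpace CategoryTheory.Abelian

set_option backward.isDefEq.respectTransparency.types false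
set_option linter.style.haveILetI false
set_option linter.unusedSectionVars false

namespace Groth.L27.ZeroDim

variable (S : Scheme.{u}) (h1 : ∀ s : S, IsClosed ({s} : Set S)) (h2 : ∀ s : S, IsSepClosed (S.residueField s))
include h1

theorem subsingleton_stalk (s : S) : Subsingleton (Spec (S.presheaf.stalk s)) := by
  have hr : ∀ z, S.fromSpecStalk s z = s := fun z => by
    have h : S.fromSpecStalk s z ⤳ s := by
      have : S.fromSpecStalk s z ∈ Set.range (S.fromSpecStalk s) := ⟨z, rfl⟩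
      rwa [Scheme.range_fromSpecStalk] at this
    exact (Set.mem_singleton_iff.1 ((h1 _).closure_eq ▸ specializes_iff_mem_closure.1 h)).symm
  exact ⟨fun a b => (S.fromSpecStalk s).isEmbedding.injective ((hr a).trans (hr b).symm)⟩

include h2 in
theorem isStrictlyHenselian (s : S) : EtCoh.IsStrictlyHenselianLocalRing (S.presheaf.stalk s) := by
  haveI : Subsingleton (PrimeSpectrum (S.presheaf.stalk s)) := subsingleton_stalk S h1 s
  exact ⟨Groth.Agent.S0495.result _ Order.krullDim_eq_zero, h2 s⟩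

variable [IsAffine S]

theorem exists_clopen_nbhd (s : S) (V : S.Opens) (hs : s ∈ V) :
    ∃ O : S.Opens, s ∈ O ∧ O ≤ V ∧ IsClosed (O : Set S) := by
  let e := Scheme.homeoOfIso S.isoSpec
  have hd : ∀ p : PrimeSpectrum Γ(S, ⊤), IsClosed ({p} : Set (PrimeSpectrum Γ(S, ⊤))) := fun p => by
    have : IsClosed (e.symm ⁻¹' {e.symm p}) := (h1 _).preimage e.symm.continuous
    rwa [show e.symm ⁻¹' {e.symm p} = {p} from Set.ext fun q => e.symm.injective.eq_iff] at this
  obtain ⟨_, ⟨f, rfl⟩, hf, hfV⟩ := PrimeSpectrum.isTopologicalBasis_basic_opens.exists_subset_of_mem_open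
    (show e s ∈ e '' (V : Set S) from ⟨s, hs, rfl⟩) (e.isOpenMap _ V.2)
  have hc : IsClosed (PrimeSpectrum.basicOpen f : Set (PrimeSpectrum Γ(S, ⊤))) := by
    rw [← PrimeSpectrum.localization_away_comap_range (Localization.Away f) f]
    refine PrimeSpectrum.isClosed_range_of_stableUnderSpecialization _ fun x y hxy hx => ?_
    exact (Set.mem_singleton_iff.1 ((hd x).closure_eq ▸ specializes_iff_mem_closure.1 hxy)) ▸ hx
  refine ⟨⟨e ⁻¹' (PrimeSpectrum.basicOpen f : Set (PrimeSpectrum Γ(S, ⊤))),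
    (PrimeSpectrum.basicOpen f).2.preimage e.continuous⟩, hf, fun x hx => ?_, hc.preimage e.continuous⟩
  obtain ⟨y, hy, hye⟩ := hfV hx
  exact e.injective hye ▸ hy

include h2 in
theorem surjective_sections {F G : EtCoh.Ab S} (φ : F ⟶ G) [Epi φ] :
    Function.Surjective (φ.hom.app (op (EtCoh.top S))) := by
  intro t
  haveI : Sheaf.IsLocallySurjective φ := (Sheaf.isLocallySurjective_iff_epi' (φ := φ)).2 inferInstance
  have hloc : ∀ s : S, ∃ (V : S.Opens) (g : (Scheme.Etale.mk V.ι : S.Etale) ⟶ EtCoh.top S),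
      s ∈ V ∧ IsClosed (V : Set S) ∧ ∃ y, φ.hom.app (op (Scheme.Etale.mk V.ι)) y = G.obj.map g.op t := by
    intro s
    obtain ⟨W, g, w, ⟨y, hy⟩, hw⟩ := (EtSite.mem_topology_iff _).1
      (Presheaf.imageSieve_mem S.smallEtaleTopology φ.hom t) s
    haveI : Etale W.hom := W.prop
    obtain ⟨V, hV, σ, hσ, hσw, -⟩ := HenselSections.exists_local_section W.hom w
      (isStrictlyHenselian S h1 h2 _)
    have hgw : W.hom w = s := by
      rw [← hw]
      exact congr($((MorphismProperty.Over.w g).symm.trans (Category.comp_id _)) w)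
    obtain ⟨O, hsO, hOV, hOc⟩ := exists_clopen_nbhd S h1 s V (hgw ▸ hV)
    let σ' : (Scheme.Etale.mk O.ι : S.Etale) ⟶ W := MorphismProperty.Over.homMk (S.homOfLE hOV ≫ σ)
      ((Category.assoc _ _ _).trans ((congrArg (S.homOfLE hOV ≫ ·) hσ).trans (S.homOfLE_ι hOV)))
    refine ⟨O, σ' ≫ g, hsO, hOc, F.obj.map σ'.op y, ?_⟩
    rw [op_comp, Functor.map_comp_apply, NatTrans.naturality_apply, hy]
  choose V g hsV hVc y hy using hloc
  obtain ⟨T, hT⟩ := (isCompact_univ (X := S)).elim_finite_subcover (fun s => (V s : Set S))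
    (fun s => (V s).2) (fun s _ => Set.mem_iUnion.2 ⟨s, hsV s⟩)
  obtain ⟨n, ⟨eq⟩⟩ := Finite.exists_equiv_fin T
  let O : T → S.Opens := fun k => ⟨(V k : Set S) \ ⋃ l ∈ {l | eq l < eq k}, (V l : Set S),
    (V k).2.sdiff ((Set.toFinite _).isClosed_biUnion fun l _ => hVc l)⟩
  have hO : ∀ k, O k ≤ V k := fun k => Set.sdiff_subset
  let Ob : T → S.Etale := fun k => Scheme.Etale.mk (O k).ι
  let r : ∀ k : T, Ob k ⟶ Scheme.Etale.mk (V k).ι := fun k =>
    MorphismProperty.Over.homMk (S.homOfLE (hO k)) (S.homOfLE_ι (hO k))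
  let c : ∀ k : T, Ob k ⟶ EtCoh.top S := fun k => r k ≫ g k
  have hmem : Sieve.generate (Presieve.ofArrows Ob c) ∈ S.smallEtaleTopology (EtCoh.top S) :=
    (EtSite.mem_topology_iff _).2 fun x => by
      obtain ⟨k, hk, hx⟩ := Set.mem_iUnion₂.1 (hT (Set.mem_univ x))
      classical
      let P : Finset T := Finset.univ.filter fun l => x ∈ V l
      obtain ⟨l, hl, hmin⟩ := P.exists_min_image eq ⟨⟨k, hk⟩, Finset.mem_filter.2 ⟨Finset.mem_univ _, hx⟩⟩
      have hxl : x ∈ O l := ⟨(Finset.mem_filter.1 hl).2, fun h => by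
        obtain ⟨j, hj, hjv⟩ := Set.mem_iUnion₂.1 h
        exact absurd (hmin j (Finset.mem_filter.2 ⟨Finset.mem_univ _, hjv⟩)) (not_le.2 hj)⟩
      refine ⟨Ob l, c l, ⟨x, hxl⟩, ⟨Ob l, 𝟙 _, c l, ⟨l⟩, Category.id_comp _⟩, ?_⟩
      have hw : (c l).left = (O l).ι := (Category.comp_id _).symm.trans (MorphismProperty.Over.w (c l))
      exact congr($hw (⟨x, hxl⟩ : (O l).toScheme))
  let H := (sheafCompose S.smallEtaleTopology (forget AddCommGrpCat.{u + 1})).obj F
  let z : ∀ k : T, H.obj.obj (op (Ob k)) := fun k => F.obj.map (r k).op (y k)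
  have hcompat : Presieve.Arrows.Compatible H.obj c z := by
    intro i j Z gi gj _
    by_cases hij : i = j
    · subst hij
      rw [show gi = gj from MorphismProperty.Over.Hom.ext ((cancel_mono (O i).ι).1
        ((MorphismProperty.Over.w gi).trans (MorphismProperty.Over.w gj).symm))]
    · haveI : IsEmpty Z.left := ⟨fun x => by
        have e : (O i).ι (gi.left x) = (O j).ι (gj.left x) :=
          congr($((MorphismProperty.Over.w gi).trans (MorphismProperty.Over.w gj).symm) x)
        have hi : (O i).ι (gi.left x) ∈ (O i : Set S) := (Scheme.Opens.range_ι _).subset ⟨_, rfl⟩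
        have hj : (O i).ι (gi.left x) ∈ (O j : Set S) := e ▸ (Scheme.Opens.range_ι _).subset ⟨_, rfl⟩
        rcases lt_trichotomy (eq i) (eq j) with h | h | h
        · exact hj.2 (Set.mem_iUnion₂.2 ⟨i, h, hi.1⟩)
        · exact hij (eq.injective h)
        · exact hi.2 (Set.mem_iUnion₂.2 ⟨j, h, hj.1⟩)⟩
      exact EtSite.ext_of_locally F fun x => isEmptyElim x
  obtain ⟨a, ha, -⟩ := ((Presieve.isSheafFor_arrows_iff _ _).mp
    ((Presieve.isSheafFor_iff_generate _).mpr
      ((isSheaf_iff_isSheaf_of_type _ _).1 H.property _ hmem))) z hcompat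
  refine ⟨a, EtSite.ext_of_locally G fun x => ?_⟩
  obtain ⟨Z, q, w, ⟨Z', q', _, ⟨k⟩, hqq⟩, hw⟩ := (EtSite.mem_topology_iff _).1 hmem x
  refine ⟨Ob k, c k, q'.left w, ?_, ?_⟩
  · refine (Scheme.Hom.comp_apply _ _ _).symm.trans ((?_ : _ = q.left w).trans hw)
    rw [← hqq]
    rfl
  · rw [← NatTrans.naturality_apply φ.hom, show F.obj.map (c k).op a = z k from ha k]
    show φ.hom.app _ (F.obj.map (r k).op (y k)) = _
    rw [NatTrans.naturality_apply, hy, op_comp, Functor.map_comp_apply]

include h2 in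
theorem subsingleton_H (F : EtCoh.Ab S) (i : ℕ) (hi : 1 ≤ i) : Subsingleton (EtCoh.H S F i) := by
  obtain ⟨n, rfl⟩ := Nat.exists_eq_add_of_le hi
  rw [Nat.add_comm]
  have : ((sheafSections S.smallEtaleTopology AddCommGrpCat.{u + 1}).obj
      (op (EtCoh.top S))).PreservesEpimorphisms :=
    ⟨fun φ _ => (AddCommGrpCat.epi_iff_surjective _).2 (surjective_sections S h1 h2 φ)⟩
  have := (constantSheafAdj S.smallEtaleTopology AddCommGrpCat.{u + 1} (EtSite.isTerminalTop S)).map_projective
    _ EtSite.projective_of_int.{u + 1}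
  exact subsingleton_of_forall_eq 0 fun e => Abelian.Ext.eq_zero_of_projective e

end Groth.L27.ZeroDim
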